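import Cfsg.Agent.H71.Lim.TvDef

/-!
# Minimal best offenders for `p = 2` (S5242, piece C1; helper71)

* `exists_good_or_tv` : a nontrivial best offender contains a nontrivial norm-good best offender or a transvection;
* `bo_same_axis` : two transvections with the same functional generate a norm-good best offender;
* `Tv.bo` : a transvection generates a best offender.
-/

set_option autoImplicit false
set_option linter.unusedVariables false
set_option linter.unusedSectionVars false

namespace Cfsg.Agent.H71.Lim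

open Cfsg.Agent.H539.Lim

universe u w

variable {G : Type u} [Group G] {D : Type w} [AddCommGroup D] [DistribMulAction G D]

/-! ### Elements acting as `d ↦ d + f(d) w` -/

theorem val_add_smul {w : D} (hw : w + w = 0) (x y : ZMod 2) : (x + y).val • w = x.val • w + y.val • w := by
  have h : ∀ x y : ZMod 2, (x + y).val = x.val + y.val ∨ (x = 1 ∧ y = 1) := by decide
  rcases h x y with h1 | ⟨rfl, rfl⟩
  · rw [h1, add_smul]
  · rw [show ((1 + 1 : ZMod 2)).val = 0 from rfl, show ((1 : ZMod 2)).val = 1 from rfl, zero_smul, one_smul, hw]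

theorem zmod_two (x : ZMod 2) : x = 0 ∨ x = 1 := by
  revert x
  decide

/-- `g` acts as `d ↦ d + f(d) w` for some `w` -/
def Ax (f : D →+ ZMod 2) (g : G) : Prop := ∃ w : D, f w = 0 ∧ w + w = 0 ∧ ∀ d : D, g • d = d + (f d).val • w

variable {f : D →+ ZMod 2}

theorem Ax.one : Ax f (1 : G) := ⟨0, map_zero f, add_zero 0, fun d => by rw [one_smul, smul_zero, add_zero]⟩

theorem Ax.mul {g h : G} (hg : Ax f g) (hh : Ax f h) : Ax f (g * h) := by
  obtain ⟨w, h1, h2, h3⟩ := hg
  obtain ⟨w', h1', h2', h3'⟩ := hh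
  refine ⟨w + w', by rw [map_add, h1, h1', add_zero], by rw [add_add_add_comm, h2, h2', add_zero], fun d => ?_⟩
  have h4 : f (d + (f d).val • w') = f d := by rw [map_add, map_nsmul, h1', smul_zero, add_zero]
  rw [mul_smul, h3', h3, h4, smul_add]
  abel

theorem Ax.inv {g : G} (hg : Ax f g) : Ax f g⁻¹ := by
  obtain ⟨w, h1, h2, h3⟩ := hg
  refine ⟨w, h1, h2, fun d => ?_⟩
  rw [inv_smul_eq_iff, h3]
  have h4 : f (d + (f d).val • w) = f d := by rw [map_add, map_nsmul, h1, smul_zero, add_zero]
  rw [h4, add_assoc, ← smul_add, h2, smul_zero, add_zero]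

theorem Tv.ax {a : G} {z : D} (h : Tv a f z) : Ax f a := ⟨z, h.fz, h.two_z, h.act⟩

/-- a nontrivial element fixes exactly the kernel of `f` -/
theorem Ax.fix_iff {g : G} (hg : Ax f g) (hne : ¬ ∀ d : D, g • d = d) (d : D) : g • d = d ↔ f d = 0 := by
  obtain ⟨w, h1, h2, h3⟩ := hg
  have hw : w ≠ 0 := by
    rintro rfl
    exact hne fun d => by rw [h3, smul_zero, add_zero]
  rw [h3]
  rcases zmod_two (f d) with h | h <;> rw [h]
  · rw [show ((0 : ZMod 2)).val = 0 from rfl, zero_smul, add_zero]
    simp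
  · rw [show ((1 : ZMod 2)).val = 1 from rfl, one_smul]
    constructor
    · intro h4
      exact absurd (left_eq_add.1 h4.symm) hw
    · intro h4
      exact absurd h4 (by decide)

/-- the index of the kernel -/
theorem card_ker [Finite D] (hf : f ≠ 0) : Nat.card D = 2 * Nat.card f.ker := by
  have h1 : Function.Surjective f := by
    obtain ⟨d, hd⟩ : ∃ d, f d ≠ 0 := by
      by_contra hcon
      push Not at hcon
      exact hf (by ext d; exact hcon d)
    intro x
    rcases zmod_two x with rfl | rfl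
    · exact ⟨0, map_zero f⟩
    · exact ⟨d, (zmod_two (f d)).resolve_left hd⟩
  have h2 := f.ker.card_mul_index
  rw [AddSubgroup.index_ker, AddMonoidHom.range_eq_top.2 h1] at h2
  have h3 : Nat.card (⊤ : AddSubgroup (ZMod 2)) = 2 := by
    rw [AddSubgroup.card_top]
    simp
  rw [h3] at h2
  omega

theorem DFix_bot : (DFix (⊥ : Subgroup G) D) = ⊤ := by
  rw [eq_top_iff]
  intro d _ u hu
  rw [Subgroup.mem_bot.1 hu, one_smul]

theorem card_DFix_bot : Nat.card (DFix (⊥ : Subgroup G) D) = Nat.card D := by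
  rw [DFix_bot]
  exact AddSubgroup.card_top

theorem DFix_anti {A B : Subgroup G} (h : B ≤ A) : DFix A D ≤ DFix B D := fun _ hd u hu => hd u (h hu)

section axis

variable {K : Subgroup G} (hK : ∀ g ∈ K, Ax f g) (hfaith : ∀ g ∈ K, (∀ d : D, g • d = d) → g = 1)

include hK hfaith

/-- the fixed points of a nontrivial subgroup -/
theorem DFix_eq {B : Subgroup G} (hB : B ≤ K) (hne : B ≠ ⊥) : DFix B D = f.ker := by
  ext d
  rw [AddMonoidHom.mem_ker]
  constructor
  · intro hd
    obtain ⟨⟨u, hu⟩, hu0⟩ := Subgroup.ne_bot_iff_exists_ne_one.1 hne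
    have hu1 : u ≠ 1 := fun h => hu0 (Subtype.ext h)
    exact ((hK u (hB hu)).fix_iff (fun h => hu1 (hfaith u (hB hu) h)) d).1 (hd u hu)
  · intro hd u hu
    by_cases h1 : ∀ d : D, u • d = d
    · exact h1 d
    · exact ((hK u (hB hu)).fix_iff h1 d).2 hd

theorem isAb_axis : IsAb K := by
  intro a ha b hb
  have h1 : a * b * (b * a)⁻¹ = 1 := by
    apply hfaith _ (mul_mem (mul_mem ha hb) (inv_mem (mul_mem hb ha)))
    intro d
    obtain ⟨w, h1, h2, h3⟩ := hK a ha
    obtain ⟨w', h1', h2', h3'⟩ := hK b hb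
    have h4 : ∀ d : D, (a * b) • d = (b * a) • d := by
      intro d
      have h5 : f (d + (f d).val • w') = f d := by rw [map_add, map_nsmul, h1', smul_zero, add_zero]
      have h6 : f (d + (f d).val • w) = f d := by rw [map_add, map_nsmul, h1, smul_zero, add_zero]
      rw [mul_smul, mul_smul, h3', h3, h3, h3', h5, h6]
      abel
    rw [mul_smul, h4, smul_inv_smul]
  exact mul_inv_eq_one.1 h1

theorem bo_axis [Finite G] [Finite D] (hf : f ≠ 0) (hne : K ≠ ⊥) : BO D K := by
  refine ⟨isAb_axis hK hfaith, fun B hB => ?_⟩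
  rw [DFix_eq hK hfaith le_rfl hne]
  by_cases hB1 : B = ⊥
  · rw [hB1, card_DFix_bot, Subgroup.card_bot, one_mul, card_ker hf]
    have h2 : 1 < Nat.card K := by
      rw [Subgroup.one_lt_card_iff_ne_bot]
      exact hne
    exact Nat.mul_le_mul_right _ h2
  · rw [DFix_eq hK hfaith hB hB1]
    exact Nat.mul_le_mul_right _ (Subgroup.card_le_of_le hB)

theorem ngood_axis [Finite G] (hcard : Nat.card K ≠ 2) : NGood 2 D K := by
  intro M hM hi z hz _ a ha _
  have hM1 : M ≠ ⊥ := by
    rintro rfl
    rw [Subgroup.relIndex_bot_left] at hi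
    exact hcard hi
  have h1 : z ∈ DFix M D := hz
  rw [DFix_eq hK hfaith hM hM1] at h1
  have hK1 : K ≠ ⊥ := fun h => hM1 (le_bot_iff.1 (h ▸ hM))
  rw [← DFix_eq hK hfaith le_rfl hK1] at h1
  rw [Finset.sum_range_succ, Finset.sum_range_succ, Finset.sum_range_zero, zero_add, pow_zero, one_smul, pow_one,
    h1 a ha, two_smul]

end axis

/-- **Two different transvections with the same functional generate a good best offender.** -/
theorem bo_same_axis [Finite G] [Finite D] {a b : G} {f : D →+ ZMod 2} {z t : D} (ha : Tv a f z) (hb : Tv b f t)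
    (hab : a * b = b * a) (hne : a ≠ b) (hfaith : ∀ g ∈ Subgroup.closure {a, b}, (∀ d : D, g • d = d) → g = 1) :
    BO D (Subgroup.closure {a, b}) ∧ NGood 2 D (Subgroup.closure {a, b}) ∧ z ≠ t := by
  have hK : ∀ g ∈ Subgroup.closure {a, b}, Ax f g := by
    intro g hg
    induction hg using Subgroup.closure_induction with
    | mem x hx =>
      rcases hx with rfl | rfl
      · exact ha.ax
      · exact hb.ax
    | one => exact Ax.one
    | mul x y _ _ hx hy => exact hx.mul hy
    | inv x _ hx => exact hx.inv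
  have haK : a ∈ Subgroup.closure {a, b} := Subgroup.subset_closure (Set.mem_insert _ _)
  have hbK : b ∈ Subgroup.closure {a, b} := Subgroup.subset_closure (Set.mem_insert_of_mem _ rfl)
  have hK1 : Subgroup.closure {a, b} ≠ ⊥ := by
    intro h
    rw [h, Subgroup.mem_bot] at haK
    exact ha.ne_one haK
  refine ⟨bo_axis hK hfaith ha.f_ne hK1, ngood_axis hK hfaith ?_, ?_⟩
  · intro h2
    rw [Nat.card_eq_two_iff' (1 : ↥(Subgroup.closure {a, b}))] at h2
    obtain ⟨y, -, hy⟩ := h2
    have h3 := hy ⟨a, haK⟩ (fun h => ha.ne_one (congrArg Subtype.val h))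
    have h4 := hy ⟨b, hbK⟩ (fun h => hb.ne_one (congrArg Subtype.val h))
    exact hne (congrArg Subtype.val (h3.trans h4.symm))
  · intro hzt
    apply hne
    have h1 : a * b⁻¹ = 1 := by
      apply hfaith _ (mul_mem haK (inv_mem hbK))
      intro d
      rw [mul_smul, show b⁻¹ = b from inv_eq_of_mul_eq_one_left hb.sq, ← mul_smul]
      have h5 : f (d + (f d).val • t) = f d := by rw [map_add, map_nsmul, hb.fz, smul_zero, add_zero]
      rw [mul_smul, hb.act, ha.act, h5, hzt, add_assoc, ← smul_add, hb.two_z, smul_zero, add_zero]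
    exact mul_inv_eq_one.1 h1

/-- **A transvection generates a best offender.** -/
theorem Tv.bo [Finite G] [Finite D] {a : G} {f : D →+ ZMod 2} {z : D} (h : Tv a f z) : BO D (Subgroup.zpowers a) := by
  have hmem : ∀ g ∈ Subgroup.zpowers a, g = 1 ∨ g = a := by
    intro g hg
    obtain ⟨k, rfl⟩ := Subgroup.mem_zpowers_iff.1 hg
    rcases Int.even_or_odd' k with ⟨j, rfl | rfl⟩
    · left
      rw [zpow_mul, show a ^ (2 : ℤ) = 1 from by rw [show (2 : ℤ) = ((2 : ℕ) : ℤ) from rfl, zpow_natCast, pow_two, h.sq],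
        one_zpow]
    · right
      rw [zpow_add, zpow_mul, show a ^ (2 : ℤ) = 1 from by
        rw [show (2 : ℤ) = ((2 : ℕ) : ℤ) from rfl, zpow_natCast, pow_two, h.sq], one_zpow, one_mul, zpow_one]
  refine bo_axis (f := f) (fun g hg => ?_) (fun g hg hd => ?_) h.f_ne ?_
  · rcases hmem g hg with rfl | rfl
    · exact Ax.one
    · exact h.ax
  · rcases hmem g hg with rfl | rfl
    · rfl
    · exfalso
      apply h.f_ne
      ext d
      have h1 := hd d
      rw [h.act] at h1
      rcases zmod_two (f d) with h2 | h2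
      · exact h2
      · rw [h2, show ((1 : ZMod 2)).val = 1 from rfl, one_smul] at h1
        exact absurd (left_eq_add.1 h1.symm) h.z_ne
  · intro h1
    exact h.ne_one (Subgroup.zpowers_eq_bot.1 h1)

/-! ### Minimal best offenders -/

/-- trivial action: best offender and norm-good -/
theorem good_of_triv [Finite G] [Finite D] {B : Subgroup G} (hab : IsAb B) (h : ∀ b ∈ B, ∀ d : D, b • d = d) :
    BO D B ∧ NGood 2 D B := by
  have h1 : ∀ C : Subgroup G, C ≤ B → Nat.card (DFix C D) = Nat.card D := by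
    intro C hC
    have : DFix C D = ⊤ := by
      rw [eq_top_iff]
      intro d _ u hu
      exact h u (hC hu) d
    rw [this]
    exact AddSubgroup.card_top
  refine ⟨⟨hab, fun C hC => ?_⟩, ?_⟩
  · rw [h1 C hC, h1 B le_rfl]
    exact Nat.mul_le_mul_right _ (Subgroup.card_le_of_le hC)
  · intro M _ _ z _ _ a ha _
    rw [Finset.sum_range_succ, Finset.sum_range_succ, Finset.sum_range_zero, zero_add, pow_zero, one_smul, pow_one,
      h a ha, two_smul]

/-- **Minimal nontrivial best offenders.** -/
theorem exists_good_or_tv [Finite G] [Finite D] (hD : IsPTors 2 D) {A : Subgroup G} (hA : IsPGroup 2 A)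
    (hAB : BO D A) (h1 : A ≠ ⊥) :
    (∃ B : Subgroup G, B ≤ A ∧ B ≠ ⊥ ∧ BO D B ∧ NGood 2 D B) ∨
      ∃ a ∈ A, ∃ (f : D →+ ZMod 2) (z : D), Tv a f z := by
  by_cases htriv : ∃ B : Subgroup G, B ≤ A ∧ B ≠ ⊥ ∧ ∀ b ∈ B, ∀ d : D, b • d = d
  · obtain ⟨B, hBA, hB1, hB⟩ := htriv
    have h2 := good_of_triv (D := D) (B := B) (fun a ha b hb => hAB.1 a (hBA ha) b (hBA hb)) hB
    exact Or.inl ⟨B, hBA, hB1, h2.1, h2.2⟩
  push Not at htriv
  -- a minimal nontrivial best offender
  obtain ⟨C, ⟨hCA, hC1, hCB⟩, hmin⟩ := Set.Finite.exists_minimal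
    (s := {B : Subgroup G | B ≤ A ∧ B ≠ ⊥ ∧ BO D B}) (Set.toFinite _) ⟨A, le_rfl, h1, hAB⟩
  have hCD : Nat.card D ≤ Nat.card C * Nat.card (DFix C D) := by
    have := hCB.2 ⊥ bot_le
    rwa [Subgroup.card_bot, one_mul, card_DFix_bot] at this
  have hlt : ∀ B : Subgroup G, B ≤ C → B ≠ ⊥ → B ≠ C → Nat.card B * Nat.card (DFix B D) < Nat.card D := by
    intro B hBC hB1 hBne
    by_contra hcon
    rw [not_lt] at hcon
    obtain ⟨B', ⟨hB'B, hB'1⟩, hmax⟩ := Set.exists_max_image {B' : Subgroup G | B' ≤ B ∧ B' ≠ ⊥}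
      (fun B' => Nat.card B' * Nat.card (DFix B' D)) (Set.toFinite _) ⟨B, le_rfl, hB1⟩
    have hbo : BO D B' := by
      refine ⟨fun a ha b hb => hCB.1 a (hBC (hB'B ha)) b (hBC (hB'B hb)), fun E hE => ?_⟩
      by_cases hE1 : E = ⊥
      · rw [hE1, Subgroup.card_bot, one_mul, card_DFix_bot]
        exact hcon.trans (hmax B ⟨le_rfl, hB1⟩)
      · exact hmax E ⟨hE.trans hB'B, hE1⟩
    have h3 : C ≤ B' := hmin ⟨(hB'B.trans hBC).trans hCA, hB'1, hbo⟩ (hB'B.trans hBC)
    exact hBne (le_antisymm hBC (h3.trans hB'B))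
  by_cases hcard : Nat.card C = 2
  · -- a transvection
    right
    obtain ⟨⟨a, haC⟩, ha0⟩ := Subgroup.ne_bot_iff_exists_ne_one.1 hC1
    have ha1 : a ≠ 1 := fun h => ha0 (Subtype.ext h)
    have hmem : ∀ g ∈ C, g = 1 ∨ g = a := by
      intro g hg
      by_contra hcon
      push Not at hcon
      rw [Nat.card_eq_two_iff' (1 : C)] at hcard
      obtain ⟨y, -, hy⟩ := hcard
      have h3 := hy ⟨a, haC⟩ ha0
      have h4 := hy ⟨g, hg⟩ (fun h => hcon.1 (congrArg Subtype.val h))
      exact hcon.2 (congrArg Subtype.val (h4.trans h3.symm))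
    have hsq : a * a = 1 := by
      rcases hmem _ (mul_mem haC haC) with h | h
      · exact h
      · exact absurd (mul_eq_left.1 h) ha1
    have hfix : ∀ d : D, d ∈ DFix C D ↔ a • d = d := by
      intro d
      refine ⟨fun h => h a haC, fun h u hu => ?_⟩
      rcases hmem u hu with rfl | rfl
      · exact one_smul _ _
      · exact h
    -- the image of `d ↦ a d - d`
    let φ : D →+ D := DistribSMul.toAddMonoidHom D a - AddMonoidHom.id D
    have hφ : ∀ d, φ d = a • d - d := fun d => rfl
    have hker : φ.ker = DFix C D := by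
      ext d
      rw [AddMonoidHom.mem_ker, hfix, hφ, sub_eq_zero]
    have hr : Nat.card φ.range ≤ 2 := by
      have h3 := φ.ker.card_mul_index
      rw [AddSubgroup.index_ker, hker] at h3
      rw [hcard, ← h3, mul_comm] at hCD
      have h4 : 0 < Nat.card (DFix C D) := Nat.card_pos
      exact Nat.le_of_mul_le_mul_right hCD h4
    obtain ⟨z, hz, hz0⟩ : ∃ z ∈ φ.range, z ≠ 0 := by
      obtain ⟨b, hb, d, hd⟩ := htriv C hCA hC1
      have hba : b = a := (hmem b hb).resolve_left (by rintro rfl; exact hd (one_smul _ _))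
      subst hba
      exact ⟨φ d, ⟨d, rfl⟩, by rw [hφ, sub_ne_zero]; exact hd⟩
    have hrz : ∀ y ∈ φ.range, y = 0 ∨ y = z := by
      intro y hy
      by_contra hcon
      push Not at hcon
      have h3 : ({0, z, y} : Set D).ncard = 3 :=
        Set.ncard_eq_three.2 ⟨0, z, y, hz0.symm, hcon.1.symm, hcon.2.symm, rfl⟩
      have h4 : ({0, z, y} : Set D) ⊆ (φ.range : Set D) := by
        rintro x (rfl | rfl | rfl)
        · exact zero_mem _
        · exact hz
        · exact hy
      have h5 := Set.ncard_le_ncard h4 (Set.toFinite _)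
      have h6 : (φ.range : Set D).ncard = Nat.card φ.range := rfl
      omega
    have h2z : z + z = 0 := (hrz _ (add_mem hz hz)).resolve_right (fun h => hz0 (add_eq_left.1 h))
    have haz : a • z = z := by
      obtain ⟨d, hd⟩ := hz
      rw [hφ] at hd
      have h3 : a • z = -z := by
        rw [← hd, smul_sub, smul_smul, hsq, one_smul, neg_sub]
      rw [h3]
      exact neg_eq_of_add_eq_zero_left h2z
    have hact : ∀ d, a • d = d ∨ a • d = d + z := by
      intro d
      rcases hrz (φ d) ⟨d, rfl⟩ with h | h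
      · left
        rw [hφ, sub_eq_zero] at h
        exact h
      · right
        rw [hφ, sub_eq_iff_eq_add] at h
        rw [h, add_comm]
    have hcase : ∀ d, ∃ x : ZMod 2, a • d = d + x.val • z ∧ (x = 0 ↔ a • d = d) := by
      intro d
      rcases hact d with h | h
      · exact ⟨0, by rw [show ((0 : ZMod 2)).val = 0 from rfl, zero_smul, add_zero]; exact h, by simp [h]⟩
      · refine ⟨1, by rw [show ((1 : ZMod 2)).val = 1 from rfl, one_smul]; exact h, ?_⟩
        constructor
        · intro h3; exact absurd h3 (by decide)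
        · intro h3
          rw [h3] at h
          exact absurd (left_eq_add.1 h) hz0
    choose F hF hF0 using hcase
    have huniq : ∀ (d : D) (x : ZMod 2), a • d = d + x.val • z → F d = x := by
      intro d x hx
      have h3 := (hF d).symm.trans hx
      have h4 := add_left_cancel h3
      rcases zmod_two (F d) with h5 | h5 <;> rcases zmod_two x with h6 | h6 <;> rw [h5, h6] at h4 ⊢
      · rw [show ((0 : ZMod 2)).val = 0 from rfl, show ((1 : ZMod 2)).val = 1 from rfl, zero_smul, one_smul] at h4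
        exact absurd h4.symm hz0
      · rw [show ((0 : ZMod 2)).val = 0 from rfl, show ((1 : ZMod 2)).val = 1 from rfl, zero_smul, one_smul] at h4
        exact absurd h4 hz0
    let f : D →+ ZMod 2 :=
      { toFun := F
        map_zero' := huniq 0 0 (by rw [smul_zero, show ((0 : ZMod 2)).val = 0 from rfl, zero_smul, add_zero])
        map_add' := fun x y => huniq _ _ (by
          rw [smul_add, hF x, hF y, val_add_smul h2z]
          abel) }
    refine ⟨a, hCA haC, f, z, ha1, hsq, hz0, h2z, ?_, (hF0 z).2 haz, hF⟩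
    intro hf0
    obtain ⟨d, hd⟩ := hz
    apply hz0
    rw [← hd, hφ, sub_eq_zero]
    exact (hF0 d).1 (congrFun (congrArg DFunLike.coe hf0) d)
  · left
    refine ⟨C, hCA, hC1, hCB, ?_⟩
    intro M hM hi z hz _ a ha haM
    have hM1 : M ≠ ⊥ := by
      rintro rfl
      rw [Subgroup.relIndex_bot_left] at hi
      exact hcard hi
    have hMC : M ≠ C := by
      rintro rfl
      exact haM ha
    have h3 := hlt M hM hM1 hMC
    have h4 : Nat.card C = Nat.card M * 2 := by
      have h5 := Subgroup.relIndex_mul_relIndex ⊥ M C bot_le hM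
      rw [Subgroup.relIndex_bot_left, Subgroup.relIndex_bot_left, hi] at h5
      exact h5.symm
    have h5 : DFix C D = DFix M D := by
      have h6 := DFix_anti (D := D) hM
      apply AddSubgroup.eq_of_le_of_card_ge h6
      have h7 : Nat.card (DFix C D) ∣ Nat.card (DFix M D) := AddSubgroup.card_dvd_of_le h6
      obtain ⟨c, hc⟩ := h7
      have h8 : 0 < Nat.card M := Nat.card_pos
      have h9 : 0 < Nat.card (DFix C D) := Nat.card_pos
      have h10 : Nat.card M * (Nat.card (DFix C D) * c) < Nat.card M * 2 * Nat.card (DFix C D) := by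
        rw [← hc, ← h4]
        exact h3.trans_le hCD
      have h11 : c < 2 := by
        by_contra hcon
        have h12 : Nat.card M * Nat.card (DFix C D) * 2 ≤ Nat.card M * Nat.card (DFix C D) * c :=
          Nat.mul_le_mul_left _ (by omega)
        nlinarith
      rw [hc]
      calc Nat.card (DFix C D) * c ≤ Nat.card (DFix C D) * 1 := Nat.mul_le_mul_left _ (by omega)
        _ = _ := mul_one _
    have h6 : z ∈ DFix C D := by
      rw [h5]
      exact hz
    rw [Finset.sum_range_succ, Finset.sum_range_succ, Finset.sum_range_zero, zero_add, pow_zero, one_smul, pow_one,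
      h6 a ha, two_smul]

end Cfsg.Agent.H71.Lim
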