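import Cfsg.Agent.H71.Lim.COne
import Cfsg.Agent.H539.Lim.DefsC

/-!
# Minimal best offenders for `p = 2`, for `Cfsg.Agent.H539.Lim.Tv` (S5242, piece C1; helper71)
-/

set_option autoImplicit false

namespace Cfsg.Agent.H71.Lim

open Cfsg.Agent.H539.Lim

universe u w

variable {G : Type u} [Group G] {D : Type w} [AddCommGroup D] [DistribMulAction G D]

theorem tv_iff {a : G} {f : D →+ ZMod 2} {z : D} : Tv a f z ↔ Cfsg.Agent.H539.Lim.Tv a f z :=
  ⟨fun h => ⟨h.ne_one, h.sq, h.z_ne, h.two_z, h.f_ne, h.fz, h.act⟩,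
    fun h => ⟨h.ne_one, h.sq, h.z_ne, h.two_z, h.f_ne, h.fz, h.act⟩⟩

/-- **Two different transvections with the same functional generate a good best offender.** -/
theorem bo_same_axis_two [Finite G] [Finite D] {a b : G} {f : D →+ ZMod 2} {z t : D}
    (ha : Cfsg.Agent.H539.Lim.Tv a f z) (hb : Cfsg.Agent.H539.Lim.Tv b f t)
    (hab : a * b = b * a) (hne : a ≠ b) (hfaith : ∀ g ∈ Subgroup.closure {a, b}, (∀ d : D, g • d = d) → g = 1) :
    BO D (Subgroup.closure {a, b}) ∧ NGood 2 D (Subgroup.closure {a, b}) ∧ z ≠ t :=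
  bo_same_axis (tv_iff.2 ha) (tv_iff.2 hb) hab hne hfaith

/-- **A transvection generates a best offender.** -/
theorem bo_of_tv [Finite G] [Finite D] {a : G} {f : D →+ ZMod 2} {z : D} (h : Cfsg.Agent.H539.Lim.Tv a f z) :
    BO D (Subgroup.zpowers a) := (tv_iff.2 h).bo

theorem ax_of_tv {a : G} {f : D →+ ZMod 2} {z : D} (h : Cfsg.Agent.H539.Lim.Tv a f z) : Ax f a := (tv_iff.2 h).ax

/-- **Minimal nontrivial best offenders.** -/
theorem exists_good_or_tv_two [Finite G] [Finite D] (hD : IsPTors 2 D) {A : Subgroup G} (hA : IsPGroup 2 A)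
    (hAB : BO D A) (h1 : A ≠ ⊥) :
    (∃ B : Subgroup G, B ≤ A ∧ B ≠ ⊥ ∧ BO D B ∧ NGood 2 D B) ∨
      ∃ a ∈ A, ∃ (f : D →+ ZMod 2) (z : D), Cfsg.Agent.H539.Lim.Tv a f z := by
  rcases exists_good_or_tv hD hA hAB h1 with h | ⟨a, ha, f, z, h⟩
  · exact Or.inl h
  · exact Or.inr ⟨a, ha, f, z, tv_iff.1 h⟩

end Cfsg.Agent.H71.Lim
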