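import Cfsg.Agent.H539.Lim.Defs

/-!
# Transvections (S5242, piece C1; helper71, helper539)
-/

set_option autoImplicit false

namespace Cfsg.Agent.H71.Lim

/-- `a` acts as a transvection `d ↦ d + f(d) z` -/
structure Tv {G : Type*} [Group G] {D : Type*} [AddCommGroup D] [DistribMulAction G D] (a : G)
    (f : D →+ ZMod 2) (z : D) : Prop where
  ne_one : a ≠ 1
  sq : a * a = 1
  z_ne : z ≠ 0
  two_z : z + z = 0
  f_ne : f ≠ 0
  fz : f z = 0
  act : ∀ d : D, a • d = d + (f d).val • z

end Cfsg.Agent.H71.Lim
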